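import Groth.Prelude.Def_Found
import Groth.Agent.TildeCompl.Basic
import Groth.Agent.Depth.CM
import Groth.Agent.Depth.LocalIneq
import Groth.Agent.CAlgReg.Basic
import Groth.Agent.RegNormal.Basic
import Mathlib.RingTheory.Ideal.KrullsHeightTheorem
import Mathlib.RingTheory.DiscreteValuationRing.TFAE

/-!
# Lifting (S_k) and normality from a hyperplane section
-/

set_option autoImplicit false

universe u

open IsLocalRing

namespace Groth.Agent.SerreLift

section NormalLocal

variable (R : Type u) [CommRing R] [IsDomain R] [IsNoetherianRing R] [IsLocalRing R]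
  [IsIntegrallyClosed R]

/-- A Noetherian normal local domain of dimension `≥ 2` has depth `≥ 2`. -/
theorem two_le_depth (h : (2 : WithBot ℕ∞) ≤ ringKrullDim R) : (2 : ℕ∞) ≤ LocCoh.depth R R := by
  have hh : (2 : ℕ∞) ≤ (maximalIdeal R).height := by
    rw [← IsLocalRing.maximalIdeal_height_eq_ringKrullDim] at h
    exact WithBot.coe_le_coe.1 h
  have hmne : maximalIdeal R ≠ ⊥ := fun he => by
    rw [he, Ideal.height_bot] at hh; simp at hh
  obtain ⟨b, hb, hb0⟩ := Submodule.exists_mem_ne_zero_of_ne_bot hmne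
  have hreg : IsSMulRegular R b := fun x y hxy => mul_left_cancel₀ hb0 hxy
  rw [LocCoh.depth, ← Depth.idealDepth_quotSMulTop_add_one R hb hreg, ← one_add_one_eq_two]
  refine add_le_add_left ?_ 1
  rcases subsingleton_or_nontrivial (QuotSMulTop b R) with hq | hq
  · rw [Depth.idealDepth_of_subsingleton]; exact le_top
  refine Order.one_le_iff_ne_zero.2 fun h0 => ?_
  obtain ⟨-, w, hw⟩ := TildeCompl.isPrime_colon (Depth.depth_eq_zero_iff.1 h0)
  obtain ⟨a, rfl⟩ := Submodule.Quotient.mk_surjective _ w
  have hdiv : ∀ x : R, (x • (Submodule.Quotient.mk a : QuotSMulTop b R) = 0) ↔ b ∣ x * a := fun x => by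
    rw [← Submodule.Quotient.mk_smul, Submodule.Quotient.mk_eq_zero,
      Submodule.mem_smul_pointwise_iff_exists]
    exact ⟨fun ⟨c, _, hc⟩ => ⟨c, hc.symm⟩, fun ⟨c, hc⟩ => ⟨c, trivial, hc.symm⟩⟩
  simp only [hdiv] at hw
  have hna : ¬ b ∣ a := fun hd => (maximalIdeal.isMaximal R).ne_top
    ((Ideal.eq_top_iff_one _).2 ((hw 1).2 (by rwa [one_mul])))
  choose c hc using fun x (hx : x ∈ maximalIdeal R) => (hw x).1 hx
  by_cases hall : ∀ x (hx : x ∈ maximalIdeal R), c x hx ∈ maximalIdeal R
  · -- `a / b` is integral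
    let K := FractionRing R
    let N : Submodule R K := Submodule.map (Algebra.linearMap R K) (maximalIdeal R)
    have hint : IsIntegral R (algebraMap R K a / algebraMap R K b) := by
      refine isIntegral_of_smul_mem_submodule (A := K) N ?_ ?_ _ ?_
      · intro hN
        have : algebraMap R K b ∈ N := ⟨b, hb, rfl⟩
        rw [hN, Submodule.mem_bot, map_eq_zero_iff _ (IsFractionRing.injective R K)] at this
        exact hb0 this
      · exact (IsNoetherian.noetherian (maximalIdeal R)).map _
      · rintro _ ⟨x, hx, rfl⟩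
        refine ⟨c x hx, hall x hx, ?_⟩
        have hb' : algebraMap R K b ≠ 0 := by simpa using hb0
        show algebraMap R K (c x hx) = algebraMap R K a / algebraMap R K b * algebraMap R K x
        rw [div_mul_eq_mul_div, eq_div_iff hb', ← map_mul, ← map_mul]
        congr 1
        linear_combination -(hc x hx)
    obtain ⟨r, hr⟩ := IsIntegrallyClosed.isIntegral_iff.1 hint
    refine hna ⟨r, IsFractionRing.injective R K ?_⟩
    have hb' : algebraMap R K b ≠ 0 := by simpa using hb0
    rw [map_mul, hr, mul_div_cancel₀ _ hb']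
  · push Not at hall
    obtain ⟨x, hx, hcx⟩ := hall
    obtain ⟨u, hu⟩ : IsUnit (c x hx) := by simpa [mem_maximalIdeal, mem_nonunits_iff] using hcx
    have hprinc : maximalIdeal R = Ideal.span {x} := by
      refine le_antisymm (fun y hy => Ideal.mem_span_singleton'.2 ⟨c y hy * ↑u⁻¹, ?_⟩)
        ((Ideal.span_singleton_le_iff_mem _).2 hx)
      refine mul_left_cancel₀ hb0 ?_
      have h1 := hc x hx
      have h2 := hc y hy
      rw [← hu] at h1
      have : a ≠ 0 := fun h => hna (h ▸ dvd_zero b)
      refine mul_left_cancel₀ this ?_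
      linear_combination (-(a * x * (↑u⁻¹ : R))) * h2 + (a * y * (↑u⁻¹ : R)) * h1 + (a * b * y) * u.inv_mul
    have : (maximalIdeal R).IsPrincipal := ⟨x, hprinc⟩
    have h1 : (maximalIdeal R).height ≤ 1 :=
      Ideal.height_le_one_of_isPrincipal_of_mem_minimalPrimes (maximalIdeal R) _
        (by rw [Ideal.minimalPrimes_eq_subsingleton_self]; rfl)
    exact absurd (hh.trans h1) (by norm_num)

/-- A Noetherian normal local domain of dimension `≤ 1` is regular. -/
theorem isRegularLocalRing_of_dim_le_one (h : ringKrullDim R ≤ 1) : IsRegularLocalRing R := by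
  refine IsRegularLocalRing.of_spanFinrank_maximalIdeal_le R ?_
  by_cases hb : maximalIdeal R = ⊥
  · rw [hb, Submodule.spanFinrank_bot]
    exact_mod_cast ringKrullDim_nonneg_of_nontrivial
  · have hP : (maximalIdeal R).IsPrincipal := by
      suffices h4 : IsIntegrallyClosed R ∧ ∀ P : Ideal R, P ≠ ⊥ → P.IsPrime → P = maximalIdeal R from
        ((tfae_of_isNoetherianRing_of_isLocalRing_of_isDomain R).out 3 4).1 h4
      refine ⟨inferInstance, fun P hP hP' => ?_⟩
      by_contra hne
      have hlt : P < maximalIdeal R := lt_of_le_of_ne (le_maximalIdeal hP'.ne_top) hne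
      have h1 : (⊥ : Ideal R).height < P.height :=
        Ideal.height_strict_mono_of_isPrime (bot_lt_iff_ne_bot.2 hP)
      have h2 : P.height < (maximalIdeal R).height := Ideal.height_strict_mono_of_isPrime hlt
      rw [← IsLocalRing.maximalIdeal_height_eq_ringKrullDim] at h
      rw [Ideal.height_bot, ← Order.one_le_iff_pos] at h1
      exact absurd ((h1.trans_lt h2).trans_le (WithBot.coe_le_coe.1 h)) (lt_irrefl _)
    refine le_trans (b := (1 : WithBot ℕ∞)) ?_ ?_
    · have := Submodule.spanFinrank_span_le_ncard_of_finite (R := R) (Set.finite_singleton hP.principal.choose)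
      rw [show Submodule.span R {hP.principal.choose} = maximalIdeal R from hP.principal.choose_spec.symm,
        Set.ncard_singleton] at this
      exact_mod_cast this
    · rw [← IsLocalRing.maximalIdeal_height_eq_ringKrullDim]
      have h1 : (⊥ : Ideal R).height < (maximalIdeal R).height :=
        Ideal.height_strict_mono_of_isPrime (bot_lt_iff_ne_bot.2 hb)
      rw [Ideal.height_bot, ← Order.one_le_iff_pos] at h1
      exact WithBot.coe_le_coe.2 h1

end NormalLocal

section Serre

variable {A : Type u} [CommRing A] [IsDomain A] [IsNoetherianRing A]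

/-- Serre's criterion: `(S₂)`, and in height `≤ 1` dominated by normal local rings. -/
theorem isIntegrallyClosed_of_serre
    (h1 : ∀ (p : Ideal A) [p.IsPrime], p.height ≤ 1 →
      ∃ (P : Ideal A) (_ : P.IsPrime), p ≤ P ∧ IsIntegrallyClosed (Localization.AtPrime P))
    (h2 : ∀ (p : Ideal A) [p.IsPrime], 2 ≤ p.height →
      (2 : ℕ∞) ≤ LocCoh.depth (Localization.AtPrime p) (Localization.AtPrime p)) :
    IsIntegrallyClosed A := by
  let K := FractionRing A
  refine (isIntegrallyClosed_iff K).2 fun {z} hz => ?_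
  let T : Ideal A := (LinearMap.range (Algebra.linearMap A K)).comap (LinearMap.toSpanSingleton A K z)
  by_contra hn
  obtain ⟨Q, hQ, hle⟩ := Ideal.exists_le_maximal T fun he => hn (by
    simpa [T] using he.ge (Submodule.mem_top (x := (1 : A))))
  have := hQ.isPrime
  obtain ⟨y, P, hP, -, hTP, hPy⟩ := FlatCodim.exists_prime_colon hle
  have hmem : ∀ s, s ∈ P ↔ ∃ m, algebraMap A K m = s • y • z := fun s => by
    rw [hPy]; simp [T, mul_smul]
  by_cases hh : P.height ≤ 1
  · obtain ⟨P', hP', hPP', hic⟩ := h1 P hh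
    let L := Localization.AtPrime P'
    let : Algebra L K := (IsLocalization.map (T := nonZeroDivisors A) (M := P'.primeCompl) K (RingHom.id A)
      P'.primeCompl_le_nonZeroDivisors).toAlgebra
    have : IsScalarTower A L K := IsScalarTower.of_algebraMap_eq fun a => by
      rw [RingHom.algebraMap_toAlgebra, IsLocalization.map_eq]; rfl
    have : IsFractionRing L K :=
      IsFractionRing.isFractionRing_of_isDomain_of_isLocalization P'.primeCompl L K
    obtain ⟨w, hw⟩ := (isIntegrallyClosed_iff K).1 hic ((hz.smul y).tower_top (A := L))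
    obtain ⟨⟨m, t⟩, ht⟩ := IsLocalization.surj P'.primeCompl w
    refine t.2 (hPP' ((hmem t).2 ⟨m, ?_⟩))
    rw [IsScalarTower.algebraMap_apply A L K, ← ht, map_mul, hw, ← IsScalarTower.algebraMap_apply,
      mul_comm, Algebra.smul_def]
    simp only [Algebra.smul_def]
  · have hd : (2 : ℕ∞) ≤ LocCoh.depth (Localization.AtPrime P) (LocalizedModule P.primeCompl A) := by
      rw [Depth.depth_congr (Depth.localizedSelfEquiv P.primeCompl)]
      refine h2 P ?_
      rw [← one_add_one_eq_two]
      exact Order.add_one_le_of_lt (not_le.1 hh)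
    have : Nontrivial (LocalizedModule P.primeCompl A) :=
      (Depth.localizedSelfEquiv P.primeCompl).toEquiv.nontrivial
    obtain ⟨s₁, hs₁, s₂, hs₂, hreg, hpair⟩ := TildeCompl.exists_pair P hd
    obtain ⟨m₁, hm₁⟩ := (hmem s₁).1 hs₁
    obtain ⟨m₂, hm₂⟩ := (hmem s₂).1 hs₂
    have hinj := IsFractionRing.injective A K
    have h0 : s₁ • m₂ - s₂ • m₁ = 0 := hinj (by
      rw [map_sub, map_zero, smul_eq_mul, smul_eq_mul, map_mul, map_mul, hm₁, hm₂]
      simp only [Algebra.smul_def]; ring)
    obtain ⟨t, ht, e, he⟩ := hpair m₁ m₂ ⟨1, hP.one_notMem, by rw [h0, smul_zero]⟩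
    have hs0 : s₁ ≠ 0 := fun h => by
      obtain ⟨t, ht, ht0⟩ := hreg 1 (by simp [h])
      exact ht (by rw [smul_eq_mul, mul_one] at ht0; rw [ht0]; exact P.zero_mem)
    refine ht ((hmem t).2 ⟨e, ?_⟩)
    refine mul_left_cancel₀ (show algebraMap A K s₁ ≠ 0 by simpa using hs0) ?_
    rw [← map_mul, ← smul_eq_mul s₁ e, ← he, smul_eq_mul, map_mul, hm₁]
    simp only [Algebra.smul_def]; ring

end Serre

section Lift

variable {A : Type u} [CommRing A] {t : A}

/-- The local ring of `A ⧸ (t)` at the image of `P`. -/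
theorem isLocalization_quotient (P : Ideal A) [P.IsPrime] (htP : t ∈ P)
    [(P.map (Ideal.Quotient.mk (Ideal.span {t}))).IsPrime] :
    IsLocalization.AtPrime
      (Localization.AtPrime P ⧸ (Ideal.span {t}).map (algebraMap A (Localization.AtPrime P)))
      (P.map (Ideal.Quotient.mk (Ideal.span {t}))) := by
  have hsub : Algebra.algebraMapSubmonoid (A ⧸ Ideal.span {t}) P.primeCompl =
      (P.map (Ideal.Quotient.mk (Ideal.span {t}))).primeCompl := by
    ext x
    obtain ⟨x, rfl⟩ := Ideal.Quotient.mk_surjective x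
    constructor
    · rintro ⟨y, hy, hyx⟩ hmem
      have hyx' : Ideal.Quotient.mk (Ideal.span {t}) x = Ideal.Quotient.mk _ y := hyx.symm
      rw [hyx', SetLike.mem_coe, ← Ideal.mem_comap,
        Ideal.comap_map_of_surjective _ Ideal.Quotient.mk_surjective, ← RingHom.ker_eq_comap_bot,
        Ideal.mk_ker, sup_of_le_left ((Ideal.span_singleton_le_iff_mem _).2 htP)] at hmem
      exact hy hmem
    · exact fun hmem => ⟨x, fun hx => hmem (Ideal.mem_map_of_mem _ hx), rfl⟩
  change IsLocalization (P.map (Ideal.Quotient.mk (Ideal.span {t}))).primeCompl _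
  rw [← hsub]
  infer_instance

theorem depth_eq_of_ringEquiv {R S : Type u} [CommRing R] [IsLocalRing R] [CommRing S] [IsLocalRing S]
    [IsNoetherianRing S] (e : R ≃+* S) : LocCoh.depth R R = LocCoh.depth S S := by
  letI := e.toRingHom.toAlgebra
  rw [Depth.depth_eq_of_surjective (R := R) (S := S) (M := S) e.surjective]
  exact Depth.depth_congr (LinearEquiv.ofBijective (Algebra.linearMap R S) e.bijective)

variable [IsNoetherianRing A] (hreg : t ∈ nonZeroDivisors A) (P : Ideal A) [P.IsPrime] (htP : t ∈ P)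
  [(P.map (Ideal.Quotient.mk (Ideal.span {t}))).IsPrime]

/-- `(A/t)_P̄ ≅ A_P / t`. -/
noncomputable def quotEquiv : ((Localization.AtPrime P) ⧸ Ideal.span {algebraMap A (Localization.AtPrime P) t}) ≃+* (Localization.AtPrime (P.map (Ideal.Quotient.mk (Ideal.span {t})))) :=
  haveI := isLocalization_quotient P htP
  (Ideal.quotEquivOfEq (show Ideal.span {algebraMap A (Localization.AtPrime P) t} = (Ideal.span {t}).map (algebraMap A (Localization.AtPrime P)) by rw [Ideal.map_span, Set.image_singleton])).trans
    (IsLocalization.algEquiv (P.map (Ideal.Quotient.mk (Ideal.span {t}))).primeCompl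
      ((Localization.AtPrime P) ⧸ (Ideal.span {t}).map (algebraMap A (Localization.AtPrime P))) (Localization.AtPrime (P.map (Ideal.Quotient.mk (Ideal.span {t}))))).toRingEquiv

include hreg in
omit [IsNoetherianRing A] [(P.map (Ideal.Quotient.mk (Ideal.span {t}))).IsPrime] in
theorem algebraMap_mem_nonZeroDivisors : algebraMap A (Localization.AtPrime P) t ∈ nonZeroDivisors (Localization.AtPrime P) :=
  IsLocalization.map_nonZeroDivisors_le P.primeCompl (Localization.AtPrime P) ⟨t, hreg, rfl⟩

include hreg htP in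
theorem ringKrullDim_lift : ringKrullDim (Localization.AtPrime (P.map (Ideal.Quotient.mk (Ideal.span {t})))) + 1 = ringKrullDim (Localization.AtPrime P) := by
  rw [← ringKrullDim_eq_of_ringEquiv (quotEquiv P htP)]
  exact ringKrullDim_quotient_span_singleton_succ_eq_ringKrullDim_of_mem_nonZeroDivisors
    (algebraMap_mem_nonZeroDivisors hreg P)
    ((IsLocalization.AtPrime.to_map_mem_maximal_iff (Localization.AtPrime P) P t).2 htP)

include hreg htP in
theorem height_lift : (P.map (Ideal.Quotient.mk (Ideal.span {t}))).height + 1 = P.height := by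
  have h := ringKrullDim_lift hreg P htP
  rw [IsLocalization.AtPrime.ringKrullDim_eq_height P (Localization.AtPrime P),
    IsLocalization.AtPrime.ringKrullDim_eq_height (P.map (Ideal.Quotient.mk (Ideal.span {t}))) (Localization.AtPrime (P.map (Ideal.Quotient.mk (Ideal.span {t}))))] at h
  exact WithBot.coe_inj.1 h

include hreg htP in
theorem depth_lift : LocCoh.depth (Localization.AtPrime (P.map (Ideal.Quotient.mk (Ideal.span {t})))) (Localization.AtPrime (P.map (Ideal.Quotient.mk (Ideal.span {t})))) + 1 = LocCoh.depth (Localization.AtPrime P) (Localization.AtPrime P) := by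
  have hm : algebraMap A (Localization.AtPrime P) t ∈ maximalIdeal (Localization.AtPrime P) := (IsLocalization.AtPrime.to_map_mem_maximal_iff (Localization.AtPrime P) P t).2 htP
  have : Nontrivial ((Localization.AtPrime P) ⧸ Ideal.span {algebraMap A (Localization.AtPrime P) t}) := (quotEquiv P htP).toEquiv.nontrivial
  have : IsLocalRing ((Localization.AtPrime P) ⧸ Ideal.span {algebraMap A (Localization.AtPrime P) t}) :=
    IsLocalRing.of_surjective' (Ideal.Quotient.mk _) Ideal.Quotient.mk_surjective
  have hr : IsSMulRegular (Localization.AtPrime P) (algebraMap A (Localization.AtPrime P) t) := by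
    intro x y hxy
    exact (mem_nonZeroDivisors_iff_right.1 (algebraMap_mem_nonZeroDivisors hreg P) (x - y) (by
      simp only [smul_eq_mul] at hxy
      linear_combination hxy)) |> sub_eq_zero.1
  rw [← depth_eq_of_ringEquiv (quotEquiv P htP),
    Depth.depth_eq_of_surjective (R := (Localization.AtPrime P)) (M := (Localization.AtPrime P) ⧸ Ideal.span {algebraMap A (Localization.AtPrime P) t}) Ideal.Quotient.mk_surjective,
    LocCoh.depth, LocCoh.depth, ← Depth.idealDepth_quotSMulTop_add_one (Localization.AtPrime P) hm hr]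
  congr 1
  refine Depth.idealDepth_congr (Submodule.quotEquivOfEq _ _ ?_)
  rw [← Submodule.ideal_span_singleton_smul, smul_eq_mul, Ideal.mul_top]

include hreg htP in
theorem regular_lift [IsRegularLocalRing (Localization.AtPrime (P.map (Ideal.Quotient.mk (Ideal.span {t}))))] : IsRegularLocalRing (Localization.AtPrime P) := by
  have : IsRegularLocalRing ((Localization.AtPrime P) ⧸ Ideal.span {algebraMap A (Localization.AtPrime P) t}) :=
    IsRegularLocalRing.of_ringEquiv (quotEquiv P htP).symm
  exact CAlgReg.of_quotient_span_singleton ((IsLocalization.AtPrime.to_map_mem_maximal_iff (Localization.AtPrime P) P t).2 htP)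
    (algebraMap_mem_nonZeroDivisors hreg P)

end Lift

section LocalRing

variable {A : Type u} [CommRing A] [IsNoetherianRing A] [IsLocalRing A] {t : A}

/-- Above `p ∌ t` there is `P ∋ t` with `ht (P/p) ≤ 1`. -/
theorem exists_over (ht : t ∈ maximalIdeal A) (p : Ideal A) [p.IsPrime] :
    ∃ (P : Ideal A) (_ : P.IsPrime), p ≤ P ∧ t ∈ P ∧
      (P.map (Ideal.Quotient.mk p)).height ≤ 1 := by
  obtain ⟨P, hP, -⟩ := Ideal.exists_minimalPrimes_le
    (sup_le (le_maximalIdeal (‹p.IsPrime›).ne_top) ((Ideal.span_singleton_le_iff_mem _).2 ht) :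
      p ⊔ Ideal.span {t} ≤ maximalIdeal A)
  have hpP : p ≤ P := le_sup_left.trans hP.1.2
  have hPp : (P.map (Ideal.Quotient.mk p)).IsPrime :=
    Ideal.map_isPrime_of_surjective (H := hP.1.1) Ideal.Quotient.mk_surjective (by rwa [Ideal.mk_ker])
  refine ⟨P, hP.1.1, hpP, (le_sup_right.trans hP.1.2) (Ideal.mem_span_singleton_self t),
    Ideal.height_le_one_of_isPrincipal_of_mem_minimalPrimes (Ideal.span {Ideal.Quotient.mk p t}) _
      ⟨⟨hPp, ?_⟩, fun R hR hle => ?_⟩⟩
  · rw [Ideal.span_singleton_le_iff_mem]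
    exact Ideal.mem_map_of_mem _ ((le_sup_right.trans hP.1.2) (Ideal.mem_span_singleton_self t))
  · have := hR.1
    refine (Ideal.map_mono (hP.2 ⟨hR.1.comap (Ideal.Quotient.mk p), sup_le ?_ ?_⟩ ?_)).trans Ideal.map_comap_le
    · exact fun x hx => by rw [Ideal.mem_comap, Ideal.Quotient.eq_zero_iff_mem.2 hx]; exact R.zero_mem
    · rw [Ideal.span_singleton_le_iff_mem, Ideal.mem_comap]
      exact hR.2 (Ideal.mem_span_singleton_self _)
    · refine (Ideal.comap_mono hle).trans ?_
      rw [Ideal.comap_map_of_surjective _ Ideal.Quotient.mk_surjective, sup_le_iff]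
      exact ⟨le_rfl, fun x hx => hpP (Ideal.Quotient.eq_zero_iff_mem.1 hx)⟩

/-- `(S_k)` lifts from `A ⧸ (t)`. -/
theorem min_height_le_depth (k : ℕ) (ht : t ∈ maximalIdeal A) (hreg : t ∈ nonZeroDivisors A)
    (hS : LocCoh.HasSk k (A ⧸ Ideal.span {t}) (A ⧸ Ideal.span {t})) (p : Ideal A) [p.IsPrime] :
    min (k : ℕ∞) p.height ≤ LocCoh.depth (Localization.AtPrime p) (Localization.AtPrime p) := by
  have key : ∀ (P : Ideal A) [P.IsPrime], t ∈ P →
      min ((k : ℕ∞) + 1) P.height ≤ LocCoh.depth (Localization.AtPrime P) (Localization.AtPrime P) := by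
    intro P _ htP
    have : (P.map (Ideal.Quotient.mk (Ideal.span {t}))).IsPrime :=
      Ideal.map_isPrime_of_surjective Ideal.Quotient.mk_surjective
        (by rw [Ideal.mk_ker, Ideal.span_singleton_le_iff_mem]; exact htP)
    have h := hS (P.map (Ideal.Quotient.mk (Ideal.span {t})))
    rw [Depth.depth_congr (Depth.localizedSelfEquiv _),
      Module.supportDim_eq_of_equiv (Depth.localizedSelfEquiv _),
      Module.supportDim_self_eq_ringKrullDim,
      IsLocalization.AtPrime.ringKrullDim_eq_height (P.map (Ideal.Quotient.mk (Ideal.span {t})))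
        (Localization.AtPrime (P.map (Ideal.Quotient.mk (Ideal.span {t}))))] at h
    have h' : min (k : ℕ∞) (P.map (Ideal.Quotient.mk (Ideal.span {t}))).height ≤
        LocCoh.depth (Localization.AtPrime (P.map (Ideal.Quotient.mk (Ideal.span {t}))))
          (Localization.AtPrime (P.map (Ideal.Quotient.mk (Ideal.span {t})))) := by
      rw [← WithBot.coe_le_coe, WithBot.coe_min]; exact h
    rw [← height_lift hreg P htP, ← depth_lift hreg P htP, min_add_add_right]
    exact add_le_add_left h' 1
  by_cases htp : t ∈ p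
  · exact le_trans (min_le_min le_self_add le_rfl) (key p htp)
  obtain ⟨P, hP, hpP, htP, hh⟩ := exists_over ht p
  have hd := Depth.depth_localization_le A p P hpP
  rw [Depth.depth_congr (Depth.localizedSelfEquiv p.primeCompl),
    Depth.depth_congr (Depth.localizedSelfEquiv P.primeCompl)] at hd
  have h1 : p.height + 1 ≤ P.height := Order.add_one_le_of_lt
    (Ideal.height_strict_mono_of_isPrime_of_isPrime (lt_of_le_of_ne hpP fun he => htp (he ▸ htP)))
  have h2 : min (k : ℕ∞) p.height + 1 ≤ LocCoh.depth (Localization.AtPrime p) (Localization.AtPrime p) + 1 := by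
    refine le_trans ?_ ((key P htP).trans (hd.trans (add_le_add_right hh _)))
    rw [← min_add_add_right]
    exact min_le_min le_rfl h1
  exact (ENat.add_le_add_iff_right ENat.one_ne_top).1 h2

/-- A domain whose quotient by `t` is a normal domain is normal, if it is catenary. -/
theorem isIntegrallyClosed_lift [IsDomain A] (hcat : CAlg.IsCatenary A) (ht : t ∈ maximalIdeal A)
    (ht0 : t ≠ 0) [IsDomain (A ⧸ Ideal.span {t})] [IsIntegrallyClosed (A ⧸ Ideal.span {t})] :
    IsIntegrallyClosed A := by
  have hreg : t ∈ nonZeroDivisors A := mem_nonZeroDivisors_of_ne_zero ht0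
  have hS : LocCoh.HasSk 2 (A ⧸ Ideal.span {t}) (A ⧸ Ideal.span {t}) := by
    intro Q _
    rw [Depth.depth_congr (Depth.localizedSelfEquiv _),
      Module.supportDim_eq_of_equiv (Depth.localizedSelfEquiv _), Module.supportDim_self_eq_ringKrullDim]
    have : IsIntegrallyClosed (Localization.AtPrime Q) :=
      isIntegrallyClosed_of_isLocalization (Localization.AtPrime Q) Q.primeCompl Q.primeCompl_le_nonZeroDivisors
    by_cases h2 : (2 : WithBot ℕ∞) ≤ ringKrullDim (Localization.AtPrime Q)
    · exact le_trans (min_le_left _ _) (WithBot.coe_le_coe.2 (two_le_depth _ h2))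
    · rw [IsLocalization.AtPrime.ringKrullDim_eq_height Q (Localization.AtPrime Q)] at h2 ⊢
      rcases eq_or_ne Q.height 0 with h0 | h0
      · simp [h0]
      refine le_trans (min_le_right _ _) (le_trans (b := ((1 : ℕ∞) : WithBot ℕ∞)) ?_ (WithBot.coe_le_coe.2 ?_))
      · refine WithBot.coe_le_coe.2 (Order.le_of_lt_add_one ?_)
        rw [one_add_one_eq_two]
        exact not_le.1 fun hc => h2 (WithBot.coe_le_coe.2 hc)
      · obtain ⟨b, hb, hb0⟩ : ∃ b ∈ maximalIdeal (Localization.AtPrime Q), b ≠ 0 := by
          refine Submodule.exists_mem_ne_zero_of_ne_bot fun he => h0 ?_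
          have := IsLocalization.AtPrime.ringKrullDim_eq_height Q (Localization.AtPrime Q)
          rw [← IsLocalRing.maximalIdeal_height_eq_ringKrullDim, he, Ideal.height_bot] at this
          exact (WithBot.coe_inj.1 this).symm
        exact Depth.le_idealDepth_of_isWeaklyRegular (rs := [b])
          ((RingTheory.Sequence.isWeaklyRegular_singleton_iff _ b).2 fun x y h => mul_left_cancel₀ hb0 h)
          (by simpa using hb)
  refine isIntegrallyClosed_of_serre (fun p _ hp => ?_) fun p _ hp => ?_
  swap
  · exact le_trans (le_min le_rfl hp) (min_height_le_depth 2 ht hreg hS p)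
  obtain ⟨P, hP, hpP, htP, hh⟩ := exists_over ht p
  refine ⟨P, hP, hpP, ?_⟩
  have hQ : (P.map (Ideal.Quotient.mk (Ideal.span {t}))).IsPrime :=
    Ideal.map_isPrime_of_surjective Ideal.Quotient.mk_surjective
      (by rw [Ideal.mk_ker, Ideal.span_singleton_le_iff_mem]; exact htP)
  suffices hP2 : P.height ≤ 2 by
    have hQ1 : (P.map (Ideal.Quotient.mk (Ideal.span {t}))).height ≤ 1 := by
      rw [← height_lift hreg P htP, ← one_add_one_eq_two] at hP2
      exact (ENat.add_le_add_iff_right ENat.one_ne_top).1 hP2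
    have : IsIntegrallyClosed (Localization.AtPrime (P.map (Ideal.Quotient.mk (Ideal.span {t})))) :=
      isIntegrallyClosed_of_isLocalization (Localization.AtPrime _) _
        (P.map (Ideal.Quotient.mk (Ideal.span {t}))).primeCompl_le_nonZeroDivisors
    have := isRegularLocalRing_of_dim_le_one (Localization.AtPrime (P.map (Ideal.Quotient.mk (Ideal.span {t})))) (by
      rw [IsLocalization.AtPrime.ringKrullDim_eq_height (P.map (Ideal.Quotient.mk (Ideal.span {t})))
        (Localization.AtPrime (P.map (Ideal.Quotient.mk (Ideal.span {t}))))]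
      exact WithBot.coe_le_coe.2 hQ1)
    have := regular_lift hreg P htP
    exact RegNormal.isIntegrallyClosed _
  -- covering relations
  have hnone : ∀ c : PrimeSpectrum A, p < c.asIdeal → ¬ c.asIdeal < P := by
    intro c hpc hcP
    have : (c.asIdeal.map (Ideal.Quotient.mk p)).IsPrime :=
      Ideal.map_isPrime_of_surjective Ideal.Quotient.mk_surjective (by rw [Ideal.mk_ker]; exact hpc.le)
    have : (P.map (Ideal.Quotient.mk p)).IsPrime :=
      Ideal.map_isPrime_of_surjective Ideal.Quotient.mk_surjective (by rw [Ideal.mk_ker]; exact hpP)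
    have hcm : ∀ I : Ideal A, p ≤ I → (I.map (Ideal.Quotient.mk p)).comap (Ideal.Quotient.mk p) = I :=
      fun I hI => by
        rw [Ideal.comap_map_of_surjective _ Ideal.Quotient.mk_surjective, sup_eq_left]
        exact fun x hx => hI (Ideal.Quotient.eq_zero_iff_mem.1 hx)
    have h1 : c.asIdeal.map (Ideal.Quotient.mk p) < P.map (Ideal.Quotient.mk p) :=
      lt_of_le_of_ne (Ideal.map_mono hcP.le) fun he => hcP.ne (by rw [← hcm _ hpc.le, he, hcm _ hpP])
    have h0 : (⊥ : Ideal (A ⧸ p)) < c.asIdeal.map (Ideal.Quotient.mk p) :=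
      bot_lt_iff_ne_bot.2 fun he => hpc.ne' (by
        rw [← hcm _ hpc.le, he, ← RingHom.ker_eq_comap_bot, Ideal.mk_ker])
    have e0 := Ideal.height_strict_mono_of_isPrime h0
    have e1 := Ideal.height_strict_mono_of_isPrime h1
    rw [Ideal.height_bot, ← Order.one_le_iff_pos] at e0
    exact absurd ((e0.trans_lt e1).trans_le hh) (lt_irrefl _)
  let P' : PrimeSpectrum A := ⟨P, hP⟩
  let b : PrimeSpectrum A := ⟨⊥, Ideal.isPrime_bot⟩
  obtain ⟨N, hN⟩ := hcat.1 b P' bot_le
  by_contra hlt
  have h3 : ((3 : ℕ) : ℕ∞) ≤ Order.height P' := by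
    have e : Order.height P' = P.height := by
      rw [← WithBot.coe_inj, ← IsLocalization.AtPrime.ringKrullDim_eq_height P (Localization.AtPrime P)]
      rw [IsLocalization.AtPrime.ringKrullDim_eq_height P (Localization.AtPrime P)]
      simp [P', Ideal.height, Ideal.minimalPrimes_eq_subsingleton_self]
      rfl
    rw [e]; exact Order.add_one_le_of_lt (not_le.1 hlt)
  obtain ⟨s, hslast, hslen⟩ := Order.exists_series_of_le_height P' h3
  let S : Set ℕ := {n | ∃ s : LTSeries (PrimeSpectrum A), s.head = b ∧ s.last = P' ∧ s.length = n}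
  have hbdd : BddAbove S := ⟨N, fun n ⟨s, e1, e2, e3⟩ => e3 ▸ hN s e1 e2⟩
  have hS3 : ∃ n ∈ S, 3 ≤ n := by
    by_cases hs0 : s.head = b
    · exact ⟨_, ⟨s, hs0, hslast, rfl⟩, hslen.ge⟩
    · refine ⟨_, ⟨s.cons b (lt_of_le_of_ne bot_le (Ne.symm hs0)), RelSeries.head_cons .., ?_, rfl⟩, ?_⟩
      · rw [RelSeries.last_cons]; exact hslast
      · show 3 ≤ 0 + s.length + 1
        omega
  obtain ⟨n₀, hn₀, hn₀3⟩ := hS3
  obtain ⟨m, hm1, hm2, hm3⟩ := Nat.sSup_mem ⟨n₀, hn₀⟩ hbdd
  have hmlen : 3 ≤ m.length := by rw [hm3]; exact hn₀3.trans (le_csSup hbdd hn₀)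
  have hsat : ∀ i : Fin m.length, m (Fin.castSucc i) ⋖ m (Fin.succ i) := by
    intro i
    refine ⟨m.step i, fun c hc hc' => ?_⟩
    have hhead : (m.insertNth i c hc hc').head = m.head := by
      have : (Fin.castSucc i.succ).insertNth (α := fun _ => PrimeSpectrum A) c m
          (0 : Fin (m.length + 2)) = m 0 := by
        rw [Fin.insertNth_apply_below (by simp [Fin.lt_def])]
        simp
      exact this
    have hlast' : (m.insertNth i c hc hc').last = m.last := by
      have : (Fin.castSucc i.succ).insertNth (α := fun _ => PrimeSpectrum A) c m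
          (Fin.last (m.length + 1)) = m (Fin.last m.length) := by
        rw [Fin.insertNth_apply_above (by simp [Fin.lt_def])]
        simp only [Fin.pred_last, eq_rec_constant]
      exact this
    have h := le_csSup hbdd (show m.length + 1 ∈ S from
      ⟨m.insertNth i c hc hc', hhead.trans hm1, hlast'.trans hm2, rfl⟩)
    omega
  let p' : PrimeSpectrum A := ⟨p, ‹_›⟩
  have hne : p ≠ P := fun he => hlt (by rw [← he]; exact hp.trans (by norm_num))
  have hpP' : p' < P' := lt_of_le_of_ne hpP fun he => hne (congrArg PrimeSpectrum.asIdeal he)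
  have hcov : p' ⋖ P' := ⟨hpP', fun c hc hc' => hnone c hc hc'⟩
  by_cases hpb : p = ⊥
  · let two : LTSeries (PrimeSpectrum A) := ⟨1, ![p', P'], fun i => by
      obtain rfl : i = 0 := Subsingleton.elim _ _
      exact hpP'⟩
    have := hcat.2 two m (by rw [hm1]; exact PrimeSpectrum.ext hpb) (by rw [hm2]; rfl) (fun i => by
      obtain rfl : i = 0 := Subsingleton.elim _ _
      exact hcov) hsat
    have e2 : two.length = 1 := rfl
    omega
  · have hcov0 : b ⋖ p' := ⟨lt_of_le_of_ne bot_le fun he => hpb (congrArg PrimeSpectrum.asIdeal he).symm,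
      fun c hc hc' => by
        have e0 := Ideal.height_strict_mono_of_isPrime_of_isPrime (show (⊥ : Ideal A) < c.asIdeal from hc)
        have e1 := Ideal.height_strict_mono_of_isPrime_of_isPrime (show c.asIdeal < p from hc')
        rw [Ideal.height_bot, ← Order.one_le_iff_pos] at e0
        exact absurd ((e0.trans_lt e1).trans_le hp) (lt_irrefl _)⟩
    let three : LTSeries (PrimeSpectrum A) := ⟨2, ![b, p', P'], Fin.forall_fin_two.2 ⟨hcov0.1, hpP'⟩⟩
    have := hcat.2 three m (by rw [hm1]; rfl) (by rw [hm2]; rfl) (Fin.forall_fin_two.2 ⟨hcov0, hcov⟩) hsat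
    have e2 : three.length = 2 := rfl
    omega

end LocalRing

end Groth.Agent.SerreLift
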