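import Groth.Prelude.Def_Found
import Mathlib.RingTheory.KrullDimension.NonZeroDivisors
import Mathlib.RingTheory.Spectrum.Prime.Basic

/-!
# Lengths of saturated chains in a catenary spectrum
-/

set_option autoImplicit false

universe u

open PrimeSpectrum

namespace Groth.Agent.SerreLift

variable {A : Type u} [CommRing A]

/-- `HasLen a b n`: there is a saturated chain of length `n` from `a` to `b`, and no longer chain. -/
def HasLen (a b : PrimeSpectrum A) (n : ℕ) : Prop :=
  (∃ s : LTSeries (PrimeSpectrum A), s.head = a ∧ s.last = b ∧ s.length = n ∧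
    ∀ i : Fin s.length, s (Fin.castSucc i) ⋖ s (Fin.succ i)) ∧
  ∀ s : LTSeries (PrimeSpectrum A), s.head = a → s.last = b → s.length ≤ n

theorem HasLen.unique {a b : PrimeSpectrum A} {n m : ℕ} (h : HasLen a b n) (h' : HasLen a b m) : n = m := by
  obtain ⟨⟨s, s1, s2, s3, -⟩, hn⟩ := h
  obtain ⟨⟨t, t1, t2, t3, -⟩, hm⟩ := h'
  exact le_antisymm (s3 ▸ hm s s1 s2) (t3 ▸ hn t t1 t2)

theorem exists_hasLen (hcat : CAlg.IsCatenary A) {a b : PrimeSpectrum A} (hab : a ≤ b) :
    ∃ n, HasLen a b n := by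
  obtain ⟨N, hN⟩ := hcat.1 a b hab
  let S : Set ℕ := {n | ∃ s : LTSeries (PrimeSpectrum A), s.head = a ∧ s.last = b ∧ s.length = n}
  have hbdd : BddAbove S := ⟨N, fun n ⟨s, e1, e2, e3⟩ => e3 ▸ hN s e1 e2⟩
  have hne : S.Nonempty := by
    rcases eq_or_lt_of_le hab with rfl | hlt
    · exact ⟨0, RelSeries.singleton _ a, rfl, rfl, rfl⟩
    · exact ⟨1, ⟨1, ![a, b], fun i => by
        obtain rfl : i = 0 := Subsingleton.elim _ _
        exact hlt⟩, rfl, rfl, rfl⟩
  obtain ⟨m, hm1, hm2, hm3⟩ := Nat.sSup_mem hne hbdd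
  refine ⟨sSup S, ⟨m, hm1, hm2, hm3, fun i => ⟨m.step i, fun c hc hc' => ?_⟩⟩,
    fun s s1 s2 => le_csSup hbdd ⟨s, s1, s2, rfl⟩⟩
  have hhead : (m.insertNth i c hc hc').head = m.head := by
    have : (Fin.castSucc i.succ).insertNth (α := fun _ => PrimeSpectrum A) c m
        (0 : Fin (m.length + 2)) = m 0 := by
      rw [Fin.insertNth_apply_below (by simp [Fin.lt_def])]
      simp
    exact this
  have hlast' : (m.insertNth i c hc hc').last = m.last := by
    have : (Fin.castSucc i.succ).insertNth (α := fun _ => PrimeSpectrum A) c m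
        (Fin.last (m.length + 1)) = m (Fin.last m.length) := by
      rw [Fin.insertNth_apply_above (by simp [Fin.lt_def])]
      simp only [Fin.pred_last, eq_rec_constant]
    exact this
  have h := le_csSup hbdd (show m.length + 1 ∈ S from
    ⟨m.insertNth i c hc hc', hhead.trans hm1, hlast'.trans hm2, rfl⟩)
  omega

theorem HasLen.add (hcat : CAlg.IsCatenary A) {a b c : PrimeSpectrum A} {n m k : ℕ}
    (h : HasLen a b n) (h' : HasLen b c m) (h'' : HasLen a c k) : k = n + m := by
  obtain ⟨⟨p, p1, p2, p3, p4⟩, -⟩ := h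
  obtain ⟨⟨q, q1, q2, q3, q4⟩, -⟩ := h'
  obtain ⟨⟨r, r1, r2, r3, r4⟩, -⟩ := h''
  have hc : p.last = q.head := p2.trans q1.symm
  have := hcat.2 (p.smash q hc) r (by rw [RelSeries.head_smash, p1, r1])
    (by rw [RelSeries.last_smash, q2, r2]) ?_ r4
  · rw [← r3, ← this, ← p3, ← q3]; rfl
  · intro i
    refine Fin.addCases (fun j => ?_) (fun j => ?_) i
    · show (p.smash q hc) (j.castAdd q.length).castSucc ⋖ (p.smash q hc) (j.castAdd q.length).succ
      erw [RelSeries.smash_castAdd hc, RelSeries.smash_succ_castAdd hc]; exact p4 j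
    · erw [RelSeries.smash_natAdd hc, RelSeries.smash_succ_natAdd hc]; exact q4 j

theorem HasLen.one_le {a b : PrimeSpectrum A} {n : ℕ} (h : HasLen a b n) (hab : a < b) : 1 ≤ n :=
  h.2 ⟨1, ![a, b], fun i => by
    obtain rfl : i = 0 := Subsingleton.elim _ _
    exact hab⟩ rfl rfl

theorem hasLen_covBy {a b : PrimeSpectrum A} (h : a ⋖ b) : HasLen a b 1 := by
  let l : LTSeries (PrimeSpectrum A) := ⟨1, ![a, b], fun i => by
    obtain rfl : i = 0 := Subsingleton.elim _ _
    exact h.lt⟩
  refine ⟨⟨l, rfl, rfl, rfl, fun i => ?_⟩, fun s s1 s2 => ?_⟩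
  · obtain rfl : i = 0 := Subsingleton.elim _ _
    exact h
  · by_contra hn
    have h1 : s.head < s ⟨1, by omega⟩ := s.strictMono (by simp [Fin.lt_def])
    have h2 : s ⟨1, by omega⟩ < s.last := s.strictMono (by simp [Fin.lt_def]; omega)
    exact h.2 (s1 ▸ h1) (s2 ▸ h2)

/-- `dim A/q` is the length of saturated chains from `q` to the maximal ideal. -/
theorem ringKrullDim_quotient_eq [IsLocalRing A] {q : PrimeSpectrum A} {n : ℕ}
    (h : HasLen q (IsLocalRing.closedPoint A) n) :
    ringKrullDim (A ⧸ q.asIdeal) = (n : WithBot ℕ∞) := by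
  obtain ⟨⟨s, s1, s2, s3, -⟩, hmax⟩ := h
  rw [ringKrullDim_quotient]
  refine le_antisymm (iSup_le fun l => ?_) ?_
  · have hl : q ≤ (l.head : PrimeSpectrum A) := l.head.2
    let l' : LTSeries (PrimeSpectrum A) := l.map Subtype.val fun _ _ h => h
    have key : ∀ r : LTSeries (PrimeSpectrum A), q ≤ r.head → ∃ r' : LTSeries (PrimeSpectrum A),
        r'.head = q ∧ r'.last = r.last ∧ r.length ≤ r'.length := fun r hr => by
      rcases eq_or_lt_of_le hr with he | hlt
      · exact ⟨r, he.symm, rfl, le_rfl⟩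
      · exact ⟨r.cons q hlt, RelSeries.head_cons .., RelSeries.last_cons .., by
          show r.length ≤ 0 + r.length + 1; omega⟩
    obtain ⟨r, r1, r2, r3⟩ := key l' hl
    have : r.length ≤ n := by
      rcases eq_or_lt_of_le (show r.last ≤ IsLocalRing.closedPoint A from
        IsLocalRing.le_maximalIdeal r.last.2.ne_top) with he | hlt
      · exact hmax r r1 he
      · have := hmax (r.snoc _ hlt) (by rw [RelSeries.head_snoc, r1]) (RelSeries.last_snoc ..)
        simp at this
        omega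
    exact_mod_cast (show l.length ≤ n from (show l.length = l'.length from rfl) ▸ r3.trans this)
  · let l : LTSeries (PrimeSpectrum.zeroLocus (q.asIdeal : Set A)) :=
      ⟨s.length, fun i => ⟨s i, show q ≤ s i from s1 ▸ s.monotone (Fin.zero_le _)⟩, s.step⟩
    rw [← s3]
    exact le_iSup (fun p : LTSeries (PrimeSpectrum.zeroLocus (q.asIdeal : Set A)) =>
      ((p.length : ℕ∞) : WithBot ℕ∞)) l

end Groth.Agent.SerreLift
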